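import Mathlib

/-!
# Data of a coset enumeration
-/

set_option autoImplicit false

namespace Cfsg.Agent.Lib.KnownSimple.MultM.M11

/-- Generated data. -/
def par3 : ℕ := 0x9988887777665555444333211100
/-- Generated data. -/
def gix3 : ℕ := 0x45a22221088884465b460
/-- Generated data. -/
def dp3 : ℕ := 0x9249249249246db6da488
/-- Generated data. -/
def fa3 : ℕ := 0x398c5ad28420e739ca418c420b98529ceb5aceb94929421094491b45b7bda572a318c739d129605210ea1946d4a7494610841e873c8f18c4d0818a5694a42248318c44088611042000000
/-- Generated data. -/
def fl3 : ℕ := 0x818008000040404203040418304040800810204c6100030407180c604202078c1e3058c0e3018c1810008002c60c10106040630407180038c0e3078c0e3038c18106101010010182020c003020010202002020604004020c0040604182060800208040040608080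
/-- Generated data. -/
def fb3 : ℕ := 0x156521c834aca3590410942303987a956c3a1e75a128465184de4842372dede79518c739ce88d903cc87518a34eb5ace317b56149b24e8c630841ee5358b52528398a4208431082100000
/-- Generated data. -/
def fk3 : ℕ := 0x10a23084620cc520ca520c62341663184520c42e0cc4294a420c7816ad2403242948328c4420c4218c6528c731b6e004000002c0028146201138000700000280000015027607832008421
/-- Generated data. -/
def po3 : ℕ := 0x50a83409fcfa7b3c9dcea73389bcda6b3499cca633097c9a37198bc56271187c3617097fbf5f4f87b3d1e2ef76badd2df6eb4d96c15e2f166b157ab554a752a893e9d4da652e9549a451e8d45a250e7e3e1d8da6d36990c86432190b85c2e15cae4f231048237170b85c2e148a4522914890482412090481c0e05c1c0e048240000000000000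
/-- Generated data. -/
def pc3 : ℕ := 0x111111111111111111119b222222222a2322232222a2a8a5092223323322222222222292690090000800508950a9000500005000008059050900000
/-- Generated data. -/
def pa3 : ℕ := 0x30b82a28ba2220a8b4c01eb66e1a1610740c120830c1b6281929b7c0312ac1bb2823ab2229bac02bbf4cbc4db332b38aae45ae89aeadb08bae42ad201315122197a822299d50a155a0a152a556a2579893999e53988c9a519891928f9145812a1a0f1221944e4e201f43909291421e218c255f22196f88908c5f226f43896e196f438c2219238d28160a0d1b75131b3386488444724a7239737237737841783f79783d797631653b651c702b65356d466a476826661f602f621d602c2f2623245e22160d125d5824595a582459582216080109172359522010080509112153481e1d3539373937421e131b2b3e3c3a1c100d1b313a1c100d150c111d3b3a3539343b36341c13150c111d3537341c130c0b0d121d352c1a0c172722160b1723160d12100d150c1712100a1113100b08010501090d0f0c0803090d080701030703010709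
/-- Generated data. -/
def can3 : ℕ := 0xecb987543210
/-- Generated data. -/
def tb3_0 : ℕ := 0xb56479a82310
/-- Generated data. -/
def fi3_0 : ℕ := 0x7bd39719774a911390280
/-- Generated data. -/
def tb3_1 : ℕ := 0xba7894365120
/-- Generated data. -/
def fi3_1 : ℕ := 0x7d02d2fdda9d37cd94301
/-- Generated data. -/
def tb3_2 : ℕ := 0x5a6789b41230
/-- Generated data. -/
def fi3_2 : ℕ := 0xed06dd4dfacc0cce28402
/-- Generated data. -/
def tb3_3 : ℕ := 0xb9a873216540
/-- Generated data. -/
def fi3_3 : ℕ := 0x7fd6e12a7b34e81e34583
/-- Generated data. -/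
def tb3_4 : ℕ := 0xba4835697201
/-- Generated data. -/
def fi3_4 : ℕ := 0xc5879d5e1b7014201f184

end Cfsg.Agent.Lib.KnownSimple.MultM.M11
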