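import Cfsg.Agent.Lib.KnownSimple.MultC.Trie

/-!
# The table
-/

set_option autoImplicit false

namespace Cfsg.Agent.Lib.KnownSimple.MultM.M11

open Cfsg.Agent.Lib.KnownSimple.MultC

/-- The table of the letters. -/
def tb : ZN := (.node 1 (.node 1 (.node 2 (.node 4 (.node 7 (.node 14 (.node 1 (.node 2 (.node 31 (.node 23 (.node 55 .nil .nil) .nil) (.node 130 (.node 68 .nil .nil) .nil)) (.node 95 (.node 19 (.node 57 .nil .nil) .nil) (.node 76 (.node 143 .nil .nil) .nil))) (.node 61 (.node 84 (.node 116 (.node 47 .nil .nil) .nil) (.node 84 (.node 124 .nil .nil) .nil)) (.node 19 (.node 128 (.node 142 .nil .nil) .nil) (.node 85 .nil .nil)))) (.node 35 (.node 53 (.node 81 (.node 113 (.node 126 .nil .nil) .nil) (.node 52 (.node 108 .nil .nil) .nil)) (.node 17 (.node 120 (.node 73 .nil .nil) .nil) (.node 99 (.node 140 .nil .nil) .nil))) (.node 69 (.node 37 (.node 120 (.node 48 .nil .nil) .nil) (.node 96 (.node 96 .nil .nil) .nil)) (.node 109 (.node 131 (.node 64 .nil .nil)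 .nil) (.node 73 .nil .nil))))) (.node 0 (.node 20 (.node 8 (.node 72 (.node 15 (.node 74 .nil .nil) .nil) (.node 26 (.node 99 .nil .nil) .nil)) (.node 99 (.node 84 (.node 78 .nil .nil) .nil) (.node 79 (.node 139 .nil .nil) .nil))) (.node 65 (.node 87 (.node 119 (.node 48 .nil .nil) .nil) (.node 129 (.node 124 .nil .nil) .nil)) (.node 89 (.node 22 (.node 136 .nil .nil) .nil) (.node 138 .nil .nil)))) (.node 41 (.node 41 (.node 11 (.node 30 (.node 47 .nil .nil) .nil) (.node 106 (.node 134 .nil .nil) .nil)) (.node 12 (.node 21 (.node 122 .nil .nil) .nil) (.node 65 .nil .nil))) (.node 73 (.node 9 (.node 45 (.node 58 .nil .nil) .nil) (.node 133 (.node 137 .nil .nil) .nil)) (.node 37 (.node 121 (.node 114 .nil .nil) .nil) (.node 55 .nil .nil)))))) (.node 0 (.node 17 (.node 29 (.node 47 (.node 78 (.node 72 (.node 44 .nil .nil) .nil) (.node 70 (.node 122 .nil .nil) .nil)) (.node 97 (.node 124 (.node 65 .nil .nil) .nil) (.node 132 (.node 114 .nil .nil) .nil))) (.node 63 (.node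 82 (.node 18 (.node 115 .nil .nil) .nil) (.node 97 (.node 89 .nil .nil) .nil)) (.node 12 (.node 129 (.node 127 .nil .nil) .nil) (.node 58 .nil .nil)))) (.node 37 (.node 3 (.node 14 (.node 112 (.node 51 .nil .nil) .nil) (.node 34 (.node 104 .nil .nil) .nil)) (.node 24 (.node 101 (.node 59 .nil .nil) .nil) (.node 101 .nil .nil))) (.node 51 (.node 93 (.node 110 (.node 53 .nil .nil) .nil) (.node 49 (.node 108 .nil .nil) .nil)) (.node 13 (.node 117 (.node 66 .nil .nil) .nil) (.node 39 .nil .nil))))) (.node 23 (.node 1 (.node 50 (.node 8 (.node 107 (.node 137 .nil .nil) .nil) (.node 91 (.node 71 .nil .nil) .nil)) (.node 101 (.node 60 (.node 103 .nil .nil) .nil) (.node 130 (.node 109 .nil .nil) .nil))) (.node 67 (.node 9 (.node 29 (.node 86 .nil .nil) .nil) (.node 135 (.node 95 .nil .nil) .nil)) (.node 107 (.node 45 (.node 120 .nil .nil) .nil) (.node 39 .nil .nil)))) (.node 25 (.node 58 (.node 8 (.node 66 (.node 142 .nil .nil) .nil) (.node 133 (.node 83 .nil .nil) .nil))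 (.node 62 (.node 40 (.node 60 .nil .nil) .nil) (.node 80 .nil .nil))) (.node 5 (.node 49 (.node 93 (.node 126 .nil .nil) .nil) (.node 33 (.node 138 .nil .nil) .nil)) (.node 91 (.node 24 (.node 101 .nil .nil) .nil) (.node 93 .nil .nil))))))) (.node 0 (.node 9 (.node 0 (.node 27 (.node 24 (.node 11 (.node 15 (.node 63 .nil .nil) .nil) (.node 45 (.node 70 .nil .nil) .nil)) (.node 59 (.node 123 (.node 109 .nil .nil) .nil) (.node 33 (.node 126 .nil .nil) .nil))) (.node 62 (.node 85 (.node 117 (.node 143 .nil .nil) .nil) (.node 133 (.node 132 .nil .nil) .nil)) (.node 77 (.node 22 (.node 132 .nil .nil) .nil) (.node 86 .nil .nil)))) (.node 1 (.node 43 (.node 7 (.node 87 (.node 45 .nil .nil) .nil) (.node 28 (.node 73 .nil .nil) .nil)) (.node 44 (.node 21 (.node 135 .nil .nil) .nil) (.node 63 .nil .nil))) (.node 70 (.node 9 (.node 19 (.node 136 .nil .nil) .nil) (.node 83 (.node 108 .nil .nil) .nil)) (.node 110 (.node 23 (.node 68 .nil .nil) .nil) (.node 129 .nil .nil)))))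 (.node 22 (.node 14 (.node 49 (.node 79 (.node 74 (.node 47 .nil .nil) .nil) (.node 116 (.node 116 .nil .nil) .nil)) (.node 100 (.node 115 (.node 128 .nil .nil) .nil) (.node 34 (.node 131 .nil .nil) .nil))) (.node 66 (.node 89 (.node 18 (.node 94 .nil .nil) .nil) (.node 100 (.node 112 .nil .nil) .nil)) (.node 37 (.node 23 (.node 130 .nil .nil) .nil) (.node 83 .nil .nil)))) (.node 2 (.node 3 (.node 7 (.node 105 (.node 53 .nil .nil) .nil) (.node 49 (.node 132 .nil .nil) .nil)) (.node 48 (.node 28 (.node 141 .nil .nil) .nil) (.node 110 .nil .nil))) (.node 42 (.node 35 (.node 121 (.node 58 .nil .nil) .nil) (.node 119 (.node 102 .nil .nil) .nil)) (.node 81 (.node 39 (.node 67 .nil .nil) .nil) (.node 127 .nil .nil)))))) (.node 12 (.node 19 (.node 1 (.node 2 (.node 29 (.node 97 (.node 117 .nil .nil) .nil) (.node 114 (.node 71 .nil .nil) .nil)) (.node 75 (.node 78 (.node 57 .nil .nil) .nil) (.node 123 (.node 136 .nil .nil) .nil))) (.node 13 (.node 9 (.node 96 (.node 47 .nil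 .nil) .nil) (.node 79 (.node 85 .nil .nil) .nil)) (.node 105 (.node 108 (.node 128 .nil .nil) .nil) (.node 39 .nil .nil)))) (.node 39 (.node 38 (.node 59 (.node 16 (.node 79 .nil .nil) .nil) (.node 40 (.node 90 .nil .nil) .nil)) (.node 11 (.node 125 (.node 64 .nil .nil) .nil) (.node 35 .nil .nil))) (.node 5 (.node 81 (.node 26 (.node 130 .nil .nil) .nil) (.node 33 (.node 107 .nil .nil) .nil)) (.node 87 (.node 85 (.node 88 .nil .nil) .nil) (.node 40 .nil .nil))))) (.node 0 (.node 33 (.node 51 (.node 80 (.node 15 (.node 60 .nil .nil) .nil) (.node 27 (.node 76 .nil .nil) .nil)) (.node 11 (.node 56 (.node 57 .nil .nil) .nil) (.node 35 (.node 124 .nil .nil) .nil))) (.node 4 (.node 80 (.node 66 (.node 112 .nil .nil) .nil) (.node 95 (.node 139 .nil .nil) .nil)) (.node 13 (.node 99 (.node 134 .nil .nil) .nil) (.node 89 .nil .nil)))) (.node 44 (.node 31 (.node 25 (.node 115 (.node 138 .nil .nil) .nil) (.node 32 (.node 87 .nil .nil) .nil)) (.node 12 (.node 50 (.node 75 .nil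 .nil) .nil) (.node 94 .nil .nil))) (.node 6 (.node 70 (.node 122 (.node 125 .nil .nil) .nil) (.node 135 (.node 131 .nil .nil) .nil)) (.node 75 (.node 25 (.node 134 .nil .nil) .nil) (.node 67 .nil .nil)))))))) (.node 3 (.node 5 (.node 8 (.node 15 (.node 26 (.node 46 (.node 77 (.node 106 (.node 139 .nil .nil) .nil) (.node 102 (.node 117 .nil .nil) .nil)) (.node 10 (.node 20 (.node 93 .nil .nil) .nil) (.node 98 (.node 143 .nil .nil) .nil))) (.node 4 (.node 26 (.node 17 (.node 137 .nil .nil) .nil) (.node 31 (.node 127 .nil .nil) .nil)) (.node 41 (.node 77 (.node 62 .nil .nil) .nil) (.node 98 .nil .nil)))) (.node 36 (.node 54 (.node 6 (.node 86 (.node 141 .nil .nil) .nil) (.node 95 (.node 140 .nil .nil) .nil)) (.node 93 (.node 21 (.node 136 .nil .nil) .nil) (.node 94 .nil .nil))) (.node 50 (.node 92 (.node 18 (.node 55 .nil .nil) .nil) (.node 54 (.node 104 .nil .nil) .nil)) (.node 70 (.node 113 (.node 135 .nil .nil) .nil) (.node 75 .nil .nil))))) (.node 21 (.node 31 (.node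 29 (.node 49 (.node 79 (.node 140 .nil .nil) .nil) (.node 132 (.node 84 .nil .nil) .nil)) (.node 81 (.node 20 (.node 129 .nil .nil) .nil) (.node 50 (.node 121 .nil .nil) .nil))) (.node 7 (.node 88 (.node 53 (.node 61 .nil .nil) .nil) (.node 31 (.node 123 .nil .nil) .nil)) (.node 28 (.node 27 (.node 64 .nil .nil) .nil) (.node 43 .nil .nil)))) (.node 30 (.node 57 (.node 36 (.node 114 (.node 137 .nil .nil) .nil) (.node 28 (.node 121 .nil .nil) .nil)) (.node 16 (.node 127 (.node 67 .nil .nil) .nil) (.node 95 .nil .nil))) (.node 13 (.node 14 (.node 19 (.node 73 .nil .nil) .nil) (.node 110 (.node 142 .nil .nil) .nil)) (.node 14 (.node 99 (.node 105 .nil .nil) .nil) (.node 128 .nil .nil)))))) (.node 11 (.node 18 (.node 5 (.node 48 (.node 6 (.node 62 (.node 129 .nil .nil) .nil) (.node 25 (.node 100 .nil .nil) .nil)) (.node 98 (.node 112 (.node 124 .nil .nil) .nil) (.node 72 (.node 105 .nil .nil) .nil))) (.node 64 (.node 86 (.node 113 (.node 139 .nil .nil) .nil) (.node 83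 (.node 87 .nil .nil) .nil)) (.node 72 (.node 130 (.node 63 .nil .nil) .nil) (.node 38 .nil .nil)))) (.node 38 (.node 56 (.node 26 (.node 102 (.node 81 .nil .nil) .nil) (.node 34 (.node 133 .nil .nil) .nil)) (.node 98 (.node 125 (.node 88 .nil .nil) .nil) (.node 41 .nil .nil))) (.node 72 (.node 94 (.node 23 (.node 64 .nil .nil) .nil) (.node 135 (.node 97 .nil .nil) .nil)) (.node 111 (.node 24 (.node 114 .nil .nil) .nil) (.node 85 .nil .nil))))) (.node 24 (.node 27 (.node 3 (.node 69 (.node 112 (.node 131 .nil .nil) .nil) (.node 84 (.node 123 .nil .nil) .nil)) (.node 10 (.node 125 (.node 133 .nil .nil) .nil) (.node 76 (.node 109 .nil .nil) .nil))) (.node 68 (.node 91 (.node 105 (.node 77 .nil .nil) .nil) (.node 74 (.node 141 .nil .nil) .nil)) (.node 104 (.node 51 (.node 116 .nil .nil) .nil) (.node 42 .nil .nil)))) (.node 43 (.node 59 (.node 83 (.node 16 (.node 131 .nil .nil) .nil) (.node 80 (.node 117 .nil .nil) .nil)) (.node 103 (.node 127 (.node 123 .nil .nil) .nil)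 (.node 38 .nil .nil))) (.node 75 (.node 46 (.node 101 (.node 141 .nil .nil) .nil) (.node 125 (.node 104 .nil .nil) .nil)) (.node 22 (.node 92 (.node 122 .nil .nil) .nil) (.node 40 .nil .nil))))))) (.node 6 (.node 10 (.node 16 (.node 28 (.node 20 (.node 32 (.node 103 (.node 76 .nil .nil) .nil) (.node 111 (.node 140 .nil .nil) .nil)) (.node 96 (.node 119 (.node 119 .nil .nil) .nil) (.node 34 (.node 120 .nil .nil) .nil))) (.node 44 (.node 8 (.node 118 (.node 143 .nil .nil) .nil) (.node 86 (.node 82 .nil .nil) .nil)) (.node 62 (.node 37 (.node 134 .nil .nil) .nil) (.node 137 .nil .nil)))) (.node 2 (.node 55 (.node 17 (.node 66 (.node 46 .nil .nil) .nil) (.node 82 (.node 142 .nil .nil) .nil)) (.node 102 (.node 126 (.node 106 .nil .nil) .nil) (.node 115 .nil .nil))) (.node 71 (.node 91 (.node 121 (.node 111 .nil .nil) .nil) (.node 32 (.node 142 .nil .nil) .nil)) (.node 43 (.node 53 (.node 68 .nil .nil) .nil) (.node 92 .nil .nil))))) (.node 7 (.node 32 (.node 36 (.node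 6 (.node 59 (.node 44 .nil .nil) .nil) (.node 90 (.node 113 .nil .nil) .nil)) (.node 69 (.node 21 (.node 74 .nil .nil) .nil) (.node 35 (.node 107 .nil .nil) .nil))) (.node 67 (.node 90 (.node 38 (.node 126 .nil .nil) .nil) (.node 32 (.node 118 .nil .nil) .nil)) (.node 12 (.node 90 (.node 90 .nil .nil) .nil) (.node 96 .nil .nil)))) (.node 42 (.node 4 (.node 55 (.node 60 (.node 138 .nil .nil) .nil) (.node 30 (.node 82 .nil .nil) .nil)) (.node 97 (.node 22 (.node 68 .nil .nil) .nil) (.node 92 .nil .nil))) (.node 74 (.node 10 (.node 43 (.node 56 .nil .nil) .nil) (.node 52 (.node 109 .nil .nil) .nil)) (.node 15 (.node 50 (.node 110 .nil .nil) .nil) (.node 63 .nil .nil)))))) (.node 13 (.node 20 (.node 30 (.node 3 (.node 61 (.node 88 (.node 51 .nil .nil) .nil) (.node 65 (.node 103 .nil .nil) .nil)) (.node 10 (.node 94 (.node 57 .nil .nil) .nil) (.node 78 (.node 138 .nil .nil) .nil))) (.node 4 (.node 41 (.node 113 (.node 88 .nil .nil) .nil) (.node 65 (.node 118 .nil .nil)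 .nil)) (.node 106 (.node 111 (.node 119 .nil .nil) .nil) (.node 52 .nil .nil)))) (.node 40 (.node 29 (.node 82 (.node 100 (.node 118 .nil .nil) .nil) (.node 36 (.node 78 .nil .nil) .nil)) (.node 98 (.node 120 (.node 115 .nil .nil) .nil) (.node 36 .nil .nil))) (.node 61 (.node 30 (.node 52 (.node 54 .nil .nil) .nil) (.node 54 (.node 139 .nil .nil) .nil)) (.node 27 (.node 103 (.node 141 .nil .nil) .nil) (.node 92 .nil .nil))))) (.node 25 (.node 34 (.node 52 (.node 46 (.node 16 (.node 56 .nil .nil) .nil) (.node 106 (.node 91 .nil .nil) .nil)) (.node 33 (.node 54 (.node 58 .nil .nil) .nil) (.node 100 (.node 140 .nil .nil) .nil))) (.node 5 (.node 80 (.node 56 (.node 71 .nil .nil) .nil) (.node 111 (.node 107 .nil .nil) .nil)) (.node 108 (.node 118 (.node 143 .nil .nil) .nil) (.node 42 .nil .nil)))) (.node 45 (.node 60 (.node 18 (.node 116 (.node 71 .nil .nil) .nil) (.node 134 (.node 122 .nil .nil) .nil)) (.node 104 (.node 48 (.node 61 .nil .nil) .nil) (.node 136 .nil .nil)))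 (.node 76 (.node 17 (.node 102 (.node 77 .nil .nil) .nil) (.node 46 (.node 128 .nil .nil) .nil)) (.node 69 (.node 89 (.node 69 .nil .nil) .nil) (.node 42 .nil .nil))))))))) (.node 2 (.node 3 (.node 5 (.node 8 (.node 15 (.node 26 (.node 46 (.node 77 (.node 106 (.node 139 .nil .nil) .nil) (.node 102 (.node 117 .nil .nil) .nil)) (.node 10 (.node 20 (.node 93 .nil .nil) .nil) (.node 98 (.node 143 .nil .nil) .nil))) (.node 4 (.node 26 (.node 17 (.node 137 .nil .nil) .nil) (.node 31 (.node 127 .nil .nil) .nil)) (.node 41 (.node 77 (.node 62 .nil .nil) .nil) (.node 98 .nil .nil)))) (.node 36 (.node 54 (.node 6 (.node 86 (.node 141 .nil .nil) .nil) (.node 95 (.node 140 .nil .nil) .nil)) (.node 93 (.node 21 (.node 136 .nil .nil) .nil) (.node 94 .nil .nil))) (.node 50 (.node 92 (.node 18 (.node 55 .nil .nil) .nil) (.node 54 (.node 104 .nil .nil) .nil)) (.node 70 (.node 113 (.node 135 .nil .nil) .nil) (.node 75 .nil .nil))))) (.node 21 (.node 31 (.node 29 (.node 49 (.node 79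 (.node 140 .nil .nil) .nil) (.node 132 (.node 84 .nil .nil) .nil)) (.node 81 (.node 20 (.node 129 .nil .nil) .nil) (.node 50 (.node 121 .nil .nil) .nil))) (.node 7 (.node 88 (.node 53 (.node 61 .nil .nil) .nil) (.node 31 (.node 123 .nil .nil) .nil)) (.node 28 (.node 27 (.node 64 .nil .nil) .nil) (.node 43 .nil .nil)))) (.node 30 (.node 57 (.node 36 (.node 114 (.node 137 .nil .nil) .nil) (.node 28 (.node 121 .nil .nil) .nil)) (.node 16 (.node 127 (.node 67 .nil .nil) .nil) (.node 95 .nil .nil))) (.node 13 (.node 14 (.node 19 (.node 73 .nil .nil) .nil) (.node 110 (.node 142 .nil .nil) .nil)) (.node 14 (.node 99 (.node 105 .nil .nil) .nil) (.node 128 .nil .nil)))))) (.node 11 (.node 18 (.node 5 (.node 48 (.node 6 (.node 62 (.node 129 .nil .nil) .nil) (.node 25 (.node 100 .nil .nil) .nil)) (.node 98 (.node 112 (.node 124 .nil .nil) .nil) (.node 72 (.node 105 .nil .nil) .nil))) (.node 64 (.node 86 (.node 113 (.node 139 .nil .nil) .nil) (.node 83 (.node 87 .nil .nil) .nil))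 (.node 72 (.node 130 (.node 63 .nil .nil) .nil) (.node 38 .nil .nil)))) (.node 38 (.node 56 (.node 26 (.node 102 (.node 81 .nil .nil) .nil) (.node 34 (.node 133 .nil .nil) .nil)) (.node 98 (.node 125 (.node 88 .nil .nil) .nil) (.node 41 .nil .nil))) (.node 72 (.node 94 (.node 23 (.node 64 .nil .nil) .nil) (.node 135 (.node 97 .nil .nil) .nil)) (.node 111 (.node 24 (.node 114 .nil .nil) .nil) (.node 85 .nil .nil))))) (.node 24 (.node 27 (.node 3 (.node 69 (.node 112 (.node 131 .nil .nil) .nil) (.node 84 (.node 123 .nil .nil) .nil)) (.node 10 (.node 125 (.node 133 .nil .nil) .nil) (.node 76 (.node 109 .nil .nil) .nil))) (.node 68 (.node 91 (.node 105 (.node 77 .nil .nil) .nil) (.node 74 (.node 141 .nil .nil) .nil)) (.node 104 (.node 51 (.node 116 .nil .nil) .nil) (.node 42 .nil .nil)))) (.node 43 (.node 59 (.node 83 (.node 16 (.node 131 .nil .nil) .nil) (.node 80 (.node 117 .nil .nil) .nil)) (.node 103 (.node 127 (.node 123 .nil .nil) .nil) (.node 38 .nil .nil))) (.node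 75 (.node 46 (.node 101 (.node 141 .nil .nil) .nil) (.node 125 (.node 104 .nil .nil) .nil)) (.node 22 (.node 92 (.node 122 .nil .nil) .nil) (.node 40 .nil .nil))))))) (.node 6 (.node 10 (.node 16 (.node 28 (.node 20 (.node 32 (.node 103 (.node 76 .nil .nil) .nil) (.node 111 (.node 140 .nil .nil) .nil)) (.node 96 (.node 119 (.node 119 .nil .nil) .nil) (.node 34 (.node 120 .nil .nil) .nil))) (.node 44 (.node 8 (.node 118 (.node 143 .nil .nil) .nil) (.node 86 (.node 82 .nil .nil) .nil)) (.node 62 (.node 37 (.node 134 .nil .nil) .nil) (.node 137 .nil .nil)))) (.node 2 (.node 55 (.node 17 (.node 66 (.node 46 .nil .nil) .nil) (.node 82 (.node 142 .nil .nil) .nil)) (.node 102 (.node 126 (.node 106 .nil .nil) .nil) (.node 115 .nil .nil))) (.node 71 (.node 91 (.node 121 (.node 111 .nil .nil) .nil) (.node 32 (.node 142 .nil .nil) .nil)) (.node 43 (.node 53 (.node 68 .nil .nil) .nil) (.node 92 .nil .nil))))) (.node 7 (.node 32 (.node 36 (.node 6 (.node 59 (.node 44 .nil .nil)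 .nil) (.node 90 (.node 113 .nil .nil) .nil)) (.node 69 (.node 21 (.node 74 .nil .nil) .nil) (.node 35 (.node 107 .nil .nil) .nil))) (.node 67 (.node 90 (.node 38 (.node 126 .nil .nil) .nil) (.node 32 (.node 118 .nil .nil) .nil)) (.node 12 (.node 90 (.node 90 .nil .nil) .nil) (.node 96 .nil .nil)))) (.node 42 (.node 4 (.node 55 (.node 60 (.node 138 .nil .nil) .nil) (.node 30 (.node 82 .nil .nil) .nil)) (.node 97 (.node 22 (.node 68 .nil .nil) .nil) (.node 92 .nil .nil))) (.node 74 (.node 10 (.node 43 (.node 56 .nil .nil) .nil) (.node 52 (.node 109 .nil .nil) .nil)) (.node 15 (.node 50 (.node 110 .nil .nil) .nil) (.node 63 .nil .nil)))))) (.node 13 (.node 20 (.node 30 (.node 3 (.node 61 (.node 88 (.node 51 .nil .nil) .nil) (.node 65 (.node 103 .nil .nil) .nil)) (.node 10 (.node 94 (.node 57 .nil .nil) .nil) (.node 78 (.node 138 .nil .nil) .nil))) (.node 4 (.node 41 (.node 113 (.node 88 .nil .nil) .nil) (.node 65 (.node 118 .nil .nil) .nil)) (.node 106 (.node 111 (.node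 119 .nil .nil) .nil) (.node 52 .nil .nil)))) (.node 40 (.node 29 (.node 82 (.node 100 (.node 118 .nil .nil) .nil) (.node 36 (.node 78 .nil .nil) .nil)) (.node 98 (.node 120 (.node 115 .nil .nil) .nil) (.node 36 .nil .nil))) (.node 61 (.node 30 (.node 52 (.node 54 .nil .nil) .nil) (.node 54 (.node 139 .nil .nil) .nil)) (.node 27 (.node 103 (.node 141 .nil .nil) .nil) (.node 92 .nil .nil))))) (.node 25 (.node 34 (.node 52 (.node 46 (.node 16 (.node 56 .nil .nil) .nil) (.node 106 (.node 91 .nil .nil) .nil)) (.node 33 (.node 54 (.node 58 .nil .nil) .nil) (.node 100 (.node 140 .nil .nil) .nil))) (.node 5 (.node 80 (.node 56 (.node 71 .nil .nil) .nil) (.node 111 (.node 107 .nil .nil) .nil)) (.node 108 (.node 118 (.node 143 .nil .nil) .nil) (.node 42 .nil .nil)))) (.node 45 (.node 60 (.node 18 (.node 116 (.node 71 .nil .nil) .nil) (.node 134 (.node 122 .nil .nil) .nil)) (.node 104 (.node 48 (.node 61 .nil .nil) .nil) (.node 136 .nil .nil))) (.node 76 (.node 17 (.node 102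 (.node 77 .nil .nil) .nil) (.node 46 (.node 128 .nil .nil) .nil)) (.node 69 (.node 89 (.node 69 .nil .nil) .nil) (.node 42 .nil .nil)))))))) (.node 4 (.node 0 (.node 9 (.node 0 (.node 27 (.node 24 (.node 11 (.node 15 (.node 63 .nil .nil) .nil) (.node 45 (.node 70 .nil .nil) .nil)) (.node 59 (.node 123 (.node 109 .nil .nil) .nil) (.node 33 (.node 126 .nil .nil) .nil))) (.node 62 (.node 85 (.node 117 (.node 143 .nil .nil) .nil) (.node 133 (.node 132 .nil .nil) .nil)) (.node 77 (.node 22 (.node 132 .nil .nil) .nil) (.node 86 .nil .nil)))) (.node 1 (.node 43 (.node 7 (.node 87 (.node 45 .nil .nil) .nil) (.node 28 (.node 73 .nil .nil) .nil)) (.node 44 (.node 21 (.node 135 .nil .nil) .nil) (.node 63 .nil .nil))) (.node 70 (.node 9 (.node 19 (.node 136 .nil .nil) .nil) (.node 83 (.node 108 .nil .nil) .nil)) (.node 110 (.node 23 (.node 68 .nil .nil) .nil) (.node 129 .nil .nil))))) (.node 22 (.node 14 (.node 49 (.node 79 (.node 74 (.node 47 .nil .nil) .nil) (.node 116 (.node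 116 .nil .nil) .nil)) (.node 100 (.node 115 (.node 128 .nil .nil) .nil) (.node 34 (.node 131 .nil .nil) .nil))) (.node 66 (.node 89 (.node 18 (.node 94 .nil .nil) .nil) (.node 100 (.node 112 .nil .nil) .nil)) (.node 37 (.node 23 (.node 130 .nil .nil) .nil) (.node 83 .nil .nil)))) (.node 2 (.node 3 (.node 7 (.node 105 (.node 53 .nil .nil) .nil) (.node 49 (.node 132 .nil .nil) .nil)) (.node 48 (.node 28 (.node 141 .nil .nil) .nil) (.node 110 .nil .nil))) (.node 42 (.node 35 (.node 121 (.node 58 .nil .nil) .nil) (.node 119 (.node 102 .nil .nil) .nil)) (.node 81 (.node 39 (.node 67 .nil .nil) .nil) (.node 127 .nil .nil)))))) (.node 12 (.node 19 (.node 1 (.node 2 (.node 29 (.node 97 (.node 117 .nil .nil) .nil) (.node 114 (.node 71 .nil .nil) .nil)) (.node 75 (.node 78 (.node 57 .nil .nil) .nil) (.node 123 (.node 136 .nil .nil) .nil))) (.node 13 (.node 9 (.node 96 (.node 47 .nil .nil) .nil) (.node 79 (.node 85 .nil .nil) .nil)) (.node 105 (.node 108 (.node 128 .nil .nil)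 .nil) (.node 39 .nil .nil)))) (.node 39 (.node 38 (.node 59 (.node 16 (.node 79 .nil .nil) .nil) (.node 40 (.node 90 .nil .nil) .nil)) (.node 11 (.node 125 (.node 64 .nil .nil) .nil) (.node 35 .nil .nil))) (.node 5 (.node 81 (.node 26 (.node 130 .nil .nil) .nil) (.node 33 (.node 107 .nil .nil) .nil)) (.node 87 (.node 85 (.node 88 .nil .nil) .nil) (.node 40 .nil .nil))))) (.node 0 (.node 33 (.node 51 (.node 80 (.node 15 (.node 60 .nil .nil) .nil) (.node 27 (.node 76 .nil .nil) .nil)) (.node 11 (.node 56 (.node 57 .nil .nil) .nil) (.node 35 (.node 124 .nil .nil) .nil))) (.node 4 (.node 80 (.node 66 (.node 112 .nil .nil) .nil) (.node 95 (.node 139 .nil .nil) .nil)) (.node 13 (.node 99 (.node 134 .nil .nil) .nil) (.node 89 .nil .nil)))) (.node 44 (.node 31 (.node 25 (.node 115 (.node 138 .nil .nil) .nil) (.node 32 (.node 87 .nil .nil) .nil)) (.node 12 (.node 50 (.node 75 .nil .nil) .nil) (.node 94 .nil .nil))) (.node 6 (.node 70 (.node 122 (.node 125 .nil .nil) .nil)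 (.node 135 (.node 131 .nil .nil) .nil)) (.node 75 (.node 25 (.node 134 .nil .nil) .nil) (.node 67 .nil .nil))))))) (.node 7 (.node 0 (.node 17 (.node 29 (.node 47 (.node 78 (.node 72 (.node 44 .nil .nil) .nil) (.node 70 (.node 122 .nil .nil) .nil)) (.node 97 (.node 124 (.node 65 .nil .nil) .nil) (.node 132 (.node 114 .nil .nil) .nil))) (.node 63 (.node 82 (.node 18 (.node 115 .nil .nil) .nil) (.node 97 (.node 89 .nil .nil) .nil)) (.node 12 (.node 129 (.node 127 .nil .nil) .nil) (.node 58 .nil .nil)))) (.node 37 (.node 3 (.node 14 (.node 112 (.node 51 .nil .nil) .nil) (.node 34 (.node 104 .nil .nil) .nil)) (.node 24 (.node 101 (.node 59 .nil .nil) .nil) (.node 101 .nil .nil))) (.node 51 (.node 93 (.node 110 (.node 53 .nil .nil) .nil) (.node 49 (.node 108 .nil .nil) .nil)) (.node 13 (.node 117 (.node 66 .nil .nil) .nil) (.node 39 .nil .nil))))) (.node 23 (.node 1 (.node 50 (.node 8 (.node 107 (.node 137 .nil .nil) .nil) (.node 91 (.node 71 .nil .nil) .nil)) (.node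 101 (.node 60 (.node 103 .nil .nil) .nil) (.node 130 (.node 109 .nil .nil) .nil))) (.node 67 (.node 9 (.node 29 (.node 86 .nil .nil) .nil) (.node 135 (.node 95 .nil .nil) .nil)) (.node 107 (.node 45 (.node 120 .nil .nil) .nil) (.node 39 .nil .nil)))) (.node 25 (.node 58 (.node 8 (.node 66 (.node 142 .nil .nil) .nil) (.node 133 (.node 83 .nil .nil) .nil)) (.node 62 (.node 40 (.node 60 .nil .nil) .nil) (.node 80 .nil .nil))) (.node 5 (.node 49 (.node 93 (.node 126 .nil .nil) .nil) (.node 33 (.node 138 .nil .nil) .nil)) (.node 91 (.node 24 (.node 101 .nil .nil) .nil) (.node 93 .nil .nil)))))) (.node 14 (.node 0 (.node 20 (.node 8 (.node 72 (.node 15 (.node 74 .nil .nil) .nil) (.node 26 (.node 99 .nil .nil) .nil)) (.node 99 (.node 84 (.node 78 .nil .nil) .nil) (.node 79 (.node 139 .nil .nil) .nil))) (.node 65 (.node 87 (.node 119 (.node 48 .nil .nil) .nil) (.node 129 (.node 124 .nil .nil) .nil)) (.node 89 (.node 22 (.node 136 .nil .nil) .nil) (.node 138 .nil .nil))))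 (.node 41 (.node 41 (.node 11 (.node 30 (.node 47 .nil .nil) .nil) (.node 106 (.node 134 .nil .nil) .nil)) (.node 12 (.node 21 (.node 122 .nil .nil) .nil) (.node 65 .nil .nil))) (.node 73 (.node 9 (.node 45 (.node 58 .nil .nil) .nil) (.node 133 (.node 137 .nil .nil) .nil)) (.node 37 (.node 121 (.node 114 .nil .nil) .nil) (.node 55 .nil .nil))))) (.node 1 (.node 35 (.node 53 (.node 81 (.node 113 (.node 126 .nil .nil) .nil) (.node 52 (.node 108 .nil .nil) .nil)) (.node 17 (.node 120 (.node 73 .nil .nil) .nil) (.node 99 (.node 140 .nil .nil) .nil))) (.node 69 (.node 37 (.node 120 (.node 48 .nil .nil) .nil) (.node 96 (.node 96 .nil .nil) .nil)) (.node 109 (.node 131 (.node 64 .nil .nil) .nil) (.node 73 .nil .nil)))) (.node 2 (.node 61 (.node 84 (.node 116 (.node 47 .nil .nil) .nil) (.node 84 (.node 124 .nil .nil) .nil)) (.node 19 (.node 128 (.node 142 .nil .nil) .nil) (.node 85 .nil .nil))) (.node 31 (.node 95 (.node 19 (.node 57 .nil .nil) .nil) (.node 76 (.node 143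 .nil .nil) .nil)) (.node 23 (.node 130 (.node 68 .nil .nil) .nil) (.node 55 .nil .nil))))))))))
/-- The tree: parents. -/
def parL : List ℕ := [0,0,0,0,0,0,1,1,1,1,2,2,2,2,3,3,3,3,4,4,4,4,5,5,5,6,6,6,6,7,7,8,8,9,9,9,9,10,10,10,10,11,11,12,12,12,12,13,13,14,15,15,15,15,16,16,16,17,18,18,18,19,19,19,20,20,21,21,21,22,22,22,23,23,24,24,25,25,26,27,28,28,30,31,31,32,32,33,33,33,34,34,35,35,36,38,38,39,39,39,40,40,42,44,44,45,46,47,47,47,48,48,53,54,56,57,57,57,58,59,60,61,63,64,64,66,67,68,70,71,71,73,78,82,82,85,95,96,97,102,104,105,107,109]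
/-- The tree: letters. -/
def genL : List ℕ := [0,0,2,4,6,8,2,4,6,8,0,4,6,8,0,2,6,8,0,2,4,8,0,4,6,0,4,6,8,0,6,0,4,0,2,4,6,2,4,6,8,0,6,0,2,4,8,4,6,6,0,4,6,8,0,4,8,6,2,4,8,0,4,8,0,6,0,2,6,2,6,8,2,8,4,8,2,6,2,4,2,6,0,2,8,2,8,4,6,8,0,4,2,8,0,2,8,0,2,8,2,6,0,0,4,8,0,0,6,8,2,8,6,2,0,0,2,8,0,0,6,2,4,2,6,4,6,8,2,0,2,4,4,2,8,4,6,4,4,4,0,6,8,0]

end Cfsg.Agent.Lib.KnownSimple.MultM.M11
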